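import Cfsg.Agent.H616.TI.Defs
import Cfsg.Agent.Schreier.Tools2

/-!
# S4821, REG (helper580)

`result : GoalAL → GoalReg` : an abelian group `A` of automorphisms of the `p`-group `R`, regular on `Z(R)#` and transitive
on the nontrivial cosets of the Frattini subgroup, is good.
-/

set_option autoImplicit false

namespace Cfsg.Agent.H580.TI.Reg

open Subgroup Cfsg Cfsg.Agent.H616.TI

universe u

variable {R : Type u} [Group R]

theorem mem_center_apply (f : MulAut R) {x : R} (hx : x ∈ center R) : f x ∈ center R := by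
  rw [mem_center_iff] at hx ⊢
  intro g
  have h := congrArg f (hx (f⁻¹ g))
  rw [map_mul, map_mul] at h
  have h1 : f (f⁻¹ g) = g := by rw [← MulAut.mul_apply, mul_inv_cancel, MulAut.one_apply]
  rwa [h1] at h

/-- the restriction of automorphisms to the centre -/
def res : MulAut R →* MulAut (center R) where
  toFun f :=
    { toFun := fun x => ⟨f x, mem_center_apply f x.2⟩
      invFun := fun x => ⟨f⁻¹ x, mem_center_apply f⁻¹ x.2⟩
      left_inv := fun x => Subtype.ext (by
        show f⁻¹ (f x) = x
        rw [← MulAut.mul_apply, inv_mul_cancel, MulAut.one_apply])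
      right_inv := fun x => Subtype.ext (by
        show f (f⁻¹ x) = x
        rw [← MulAut.mul_apply, mul_inv_cancel, MulAut.one_apply])
      map_mul' := fun x y => Subtype.ext (map_mul f (x : R) y) }
  map_one' := by ext x; rfl
  map_mul' f g := by ext x; rfl

theorem res_apply (f : MulAut R) (x : center R) : ((res f x : center R) : R) = f x := rfl

theorem frattini_apply [Finite R] (f : MulAut R) {x : R} (hx : x ∈ frattini R) : f x ∈ frattini R := by
  have h := (frattini_characteristic (G := R)).fixed f
  rw [← h] at hx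
  exact hx

theorem result (h : GoalAL.{u}) : GoalReg.{u} := by
  intro p hp R _ _ hR A hcomm htrans hreg hfr E hpE hAE hnorm z hz hz1 e he hez he1
  classical
  have hfn : (frattini R).Normal := inferInstance
  -- injectivity of the restriction to the centre
  have hinj : ∀ f ∈ E, (∀ x ∈ center R, f x = x) → f = 1 := by
    intro f hf hfx
    -- `f` commutes with `A`
    have h1 : ∀ a ∈ A, f * a = a * f := by
      intro a ha
      have h2 : f * a * f⁻¹ * a⁻¹ = 1 := by
        refine hreg z hz hz1 _ (mul_mem (hnorm f hf a ha) (inv_mem ha)) ?_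
        have h3 : ∀ x ∈ center R, f⁻¹ x = x := by
          intro x hx
          have h4 := congrArg (fun y => f⁻¹ y) (hfx x hx)
          rw [← MulAut.mul_apply, inv_mul_cancel, MulAut.one_apply] at h4
          exact h4.symm
        rw [MulAut.mul_apply, MulAut.mul_apply, MulAut.mul_apply, h3 _ (mem_center_apply _ hz)]
        rw [hfx _ (mem_center_apply _ (mem_center_apply _ hz)), ← MulAut.mul_apply, mul_inv_cancel, MulAut.one_apply]
      have h3 : f * a = 1 * a * f := by rw [← h2]; group
      rwa [one_mul] at h3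
    -- a generator modulo the Frattini subgroup
    have h2 : ∃ x0 : R, x0 ∉ frattini R := by
      by_contra hcon
      push Not at hcon
      have h3 : frattini R = ⊤ := eq_top_iff.2 fun x _ => hcon x
      have h4 : Nontrivial R := ⟨⟨z, 1, hz1⟩⟩
      exact bot_ne_top (frattini_nongenerating (K := (⊥ : Subgroup R)) (by rw [h3, bot_sup_eq]))
    obtain ⟨x0, hx0⟩ := h2
    have hfx0 : f x0 ∉ frattini R := by
      intro h3
      have h4 := frattini_apply f⁻¹ h3
      rw [← MulAut.mul_apply, inv_mul_cancel, MulAut.one_apply] at h4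
      exact hx0 h4
    obtain ⟨a, ha, hax⟩ := hfr x0 hx0 (f x0) hfx0
    -- congruence modulo the Frattini subgroup
    have hcong : ∀ y : R, (QuotientGroup.mk (a y) : R ⧸ frattini R) = QuotientGroup.mk (f y) := by
      have hmk : ∀ x y : R, x * y⁻¹ ∈ frattini R ↔ (QuotientGroup.mk x : R ⧸ frattini R) = QuotientGroup.mk y := by
        intro x y
        rw [← div_eq_mul_inv]
        exact (QuotientGroup.eq_iff_div_mem (N := frattini R)).symm
      have happ : ∀ (g : MulAut R) (x y : R), (QuotientGroup.mk x : R ⧸ frattini R) = QuotientGroup.mk y →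
          (QuotientGroup.mk (g x) : R ⧸ frattini R) = QuotientGroup.mk (g y) := by
        intro g x y hxy
        rw [← hmk] at hxy ⊢
        rw [← map_inv, ← map_mul]
        exact frattini_apply g hxy
      intro y
      by_cases hy : y ∈ frattini R
      · rw [(QuotientGroup.eq_one_iff _).2 (frattini_apply a hy), (QuotientGroup.eq_one_iff _).2 (frattini_apply f hy)]
      · obtain ⟨b, hb, hby⟩ := hfr x0 hx0 y hy
        rw [hmk] at hby hax
        have h3 : a * b = b * a := hcomm a ha b hb
        have h4 : f * b = b * f := h1 b hb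
        calc (QuotientGroup.mk (a y) : R ⧸ frattini R) = QuotientGroup.mk (a (b x0)) := happ a _ _ hby.symm
          _ = QuotientGroup.mk (b (a x0)) := by rw [← MulAut.mul_apply, h3, MulAut.mul_apply]
          _ = QuotientGroup.mk (b (f x0)) := happ b _ _ hax
          _ = QuotientGroup.mk (f (b x0)) := by rw [← MulAut.mul_apply, ← h4, MulAut.mul_apply]
          _ = _ := happ f _ _ hby
    have h3 : a⁻¹ * f = 1 := by
      refine Cfsg.Agent.Schreier.Tools2.eq_one_of_coprime hR _ ?_ ?_
      · have h4 : (a⁻¹ * f) ∈ E := mul_mem (inv_mem (hAE ha)) hf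
        have h5 : orderOf (a⁻¹ * f) ∣ Nat.card E := by
          have := orderOf_dvd_natCard (⟨_, h4⟩ : E)
          rwa [Subgroup.orderOf_mk] at this
        exact Nat.Coprime.symm ((Nat.Prime.coprime_iff_not_dvd hp.out).2 fun h6 => hpE (h6.trans h5))
      · intro t
        have h4 := hcong t
        have h5 : f t * (a t)⁻¹ ∈ frattini R := by
          rw [← div_eq_mul_inv, ← QuotientGroup.eq_iff_div_mem]
          exact h4.symm
        have h6 := frattini_apply a⁻¹ h5
        rw [map_mul, map_inv, ← MulAut.mul_apply, ← MulAut.mul_apply, inv_mul_cancel, MulAut.one_apply] at h6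
        exact h6
    have h4 : f = a := by
      have : f = a * (a⁻¹ * f) := by group
      rw [this, h3, mul_one]
    rw [h4]
    exact hreg z hz hz1 a ha (by rw [← h4]; exact hfx z hz)
  have hinj2 : ∀ f ∈ E, ∀ g ∈ E, res f = res g → f = g := by
    intro f hf g hg hfg
    have h1 : g⁻¹ * f = 1 := by
      refine hinj _ (mul_mem (inv_mem hg) hf) fun x hx => ?_
      have h2 : f x = g x := congrArg Subtype.val (congrArg (fun k : MulAut (center R) => k ⟨x, hx⟩) hfg)
      rw [MulAut.mul_apply, h2, ← MulAut.mul_apply, inv_mul_cancel, MulAut.one_apply]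
    have h2 : f = g * (g⁻¹ * f) := by group
    rw [h2, h1, mul_one]
  -- the centre is elementary abelian
  have hel : ∀ x : center R, x ^ p = 1 := by
    obtain ⟨k, hk⟩ := hR z
    -- an element of order `p` of the centre
    have h1 : ∃ w ∈ center R, w ≠ 1 ∧ w ^ p = 1 := by
      have h2 : orderOf z ≠ 1 := fun h => hz1 (orderOf_eq_one_iff.1 h)
      obtain ⟨m, hm, hm2⟩ := (Nat.dvd_prime_pow hp.out).1 (orderOf_dvd_of_pow_eq_one hk)
      have hm0 : m ≠ 0 := by
        rintro rfl
        exact h2 (by rw [hm2, pow_zero])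
      refine ⟨z ^ p ^ (m - 1), pow_mem hz _, ?_, ?_⟩
      · intro h3
        have h4 := orderOf_dvd_of_pow_eq_one h3
        rw [hm2, Nat.pow_dvd_pow_iff_le_right hp.out.one_lt] at h4
        omega
      · rw [← pow_mul, ← pow_succ, Nat.sub_add_cancel (Nat.one_le_iff_ne_zero.2 hm0), ← hm2, pow_orderOf_eq_one]
    obtain ⟨w, hw, hw1, hwp⟩ := h1
    intro x
    apply Subtype.ext
    show (x : R) ^ p = 1
    by_cases hx : (x : R) = 1
    · rw [hx, one_pow]
    · obtain ⟨a, -, ha⟩ := htrans w hw hw1 x x.2 hx
      rw [← ha, ← map_pow, hwp, map_one]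
  -- apply AL
  have hcard : Nat.card {f : MulAut (center R) // f ∈ E.map res ∧ f ⟨z, hz⟩ = ⟨z, hz⟩} =
      Nat.card {f : MulAut R // f ∈ E ∧ f z = z} := by
    symm
    apply Nat.card_congr
    refine Equiv.ofBijective (fun f => ⟨res f.1, mem_map_of_mem res f.2.1, Subtype.ext f.2.2⟩) ⟨?_, ?_⟩
    · rintro ⟨f, hf, hf2⟩ ⟨g, hg, hg2⟩ hfg
      exact Subtype.ext (hinj2 f hf g hg (congrArg Subtype.val hfg))
    · rintro ⟨_, ⟨f, hf, rfl⟩, hfz⟩
      exact ⟨⟨f, hf, congrArg Subtype.val hfz⟩, rfl⟩
  let ic : CommGroup (center R) := { (inferInstance : Group (center R)) with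
    mul_comm := fun x y => Subtype.ext ((mem_center_iff.1 y.2 x)) }
  have hAL := h p (center R) hel (A.map res) (E.map res) ?_ (map_mono hAE) ?_ ?_ ?_ ⟨z, hz⟩ ?_ (res e)
    (mem_map_of_mem res he) (Subtype.ext hez) ?_
  · rw [hcard] at hAL
    -- the index bound
    let C : Subgroup R :=
      { carrier := {x | e x = x}
        one_mem' := map_one e
        mul_mem' := fun {x y} hx hy => by
          show e (x * y) = x * y
          rw [map_mul, show e x = x from hx, show e y = y from hy]
        inv_mem' := fun {x} hx => by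
          show e x⁻¹ = x⁻¹
          rw [map_inv, show e x = x from hx] }
    have h1 : Nat.card {x : center R // res e x = x} = Nat.card ↥(C ⊓ center R) := by
      apply Nat.card_congr
      exact
        { toFun := fun x => ⟨x.1.1, congrArg Subtype.val x.2, x.1.2⟩
          invFun := fun x => ⟨⟨x.1, x.2.2⟩, Subtype.ext x.2.1⟩
          left_inv := fun _ => rfl
          right_inv := fun _ => rfl }
    have h2 : Nat.card ↥C = Nat.card {x : R // e x = x} := rfl
    have h3 : Nat.card ↥C ≤ Nat.card ↥(C ⊓ center R) * (center R).index := by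
      have h4 := Subgroup.relIndex_mul_relIndex ⊥ (C ⊓ center R) C bot_le inf_le_left
      rw [relIndex_bot_left, relIndex_bot_left] at h4
      rw [← h4, Subgroup.inf_relIndex_left]
      exact Nat.mul_le_mul_left _ (Nat.le_of_dvd (Nat.pos_of_ne_zero (Subgroup.index_ne_zero_of_finite))
        (Subgroup.relIndex_dvd_index_of_normal (center R) C))
    rw [← h2]
    calc (Nat.card {f : MulAut R // f ∈ E ∧ f z = z} + 1) * Nat.card ↥C ≤
        (Nat.card {f : MulAut R // f ∈ E ∧ f z = z} + 1) * (Nat.card ↥(C ⊓ center R) * (center R).index) :=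
          Nat.mul_le_mul_left _ h3
      _ = ((Nat.card {f : MulAut R // f ∈ E ∧ f z = z} + 1) * Nat.card {x : center R // res e x = x}) *
          (center R).index := by rw [h1, mul_assoc]
      _ ≤ Nat.card (center R) * (center R).index := Nat.mul_le_mul_right _ hAL
      _ = Nat.card R := Subgroup.card_mul_index _
  · intro h1
    exact hpE (h1.trans (Subgroup.card_map_dvd E res))
  · rintro _ ⟨f, hf, rfl⟩ _ ⟨a, ha, rfl⟩
    rw [← map_inv, ← map_mul, ← map_mul]
    exact mem_map_of_mem res (hnorm f hf a ha)
  · rintro _ ⟨a, ha, rfl⟩ _ ⟨b, hb, rfl⟩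
    rw [← map_mul, ← map_mul, hcomm a ha b hb]
  · intro W hW
    by_cases hb : W = ⊥
    · exact Or.inl hb
    · right
      obtain ⟨w, hw, hw1⟩ := (Subgroup.ne_bot_iff_exists_ne_one (H := W)).1 hb |>.elim
        (fun w hw => (⟨w.1, w.2, fun h => hw (Subtype.ext h)⟩ : ∃ w ∈ W, w ≠ 1))
      rw [eq_top_iff]
      intro x _
      by_cases hx : x = 1
      · rw [hx]; exact one_mem _
      · obtain ⟨a, ha, hax⟩ := htrans w w.2 (fun h => hw1 (Subtype.ext h)) x x.2 (fun h => hx (Subtype.ext h))
        have h1 := hW (res a) (mem_map_of_mem res ha) w hw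
        have h2 : res a w = x := Subtype.ext hax
        rwa [h2] at h1
  · exact fun h1 => hz1 (congrArg Subtype.val h1)
  · intro h1
    exact he1 (hinj2 e he 1 (one_mem _) (by rw [h1, map_one]))

end Cfsg.Agent.H580.TI.Reg
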